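import Groth.Agent.Etrest.FLCLocal
import Groth.Agent.Etcore.ShriekUnique
import Groth.Agent.Etcore.PullJoint
import Groth.Agent.Etcore.Stalks
import Groth.Agent.Etbase.StalkPull
import Groth.Agent.Sga4h.PushDer
import Groth.Agent.Etbase.PushExact

/-!
# Extension by zero through one chart and direct image through the other

`u0 : U ⟶ A`, `u1 : U ⟶ B`, `c0 : A ⟶ C`, `c1 : B ⟶ C` open immersions forming a cartesian square, `C` the
union of the two charts, `G` a sheaf on `U` such that all `R^i u1_* G` have zero stalks outside `U`.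
Then `R^i c0_* (u0_! G) = 0` for `i > 0` and `c0_* (u0_! G) = (u0 ≫ c0)_! G`.
-/

set_option autoImplicit false
universe u

open CategoryTheory CategoryTheory.Limits AlgebraicGeometry Opposite

namespace Groth.Agent.Sga4h.H15.TwoChart

open EtCoh

/-- The stalks of `F` at the geometric points outside of the range of `j` vanish. -/
def Off {U X : Scheme.{u}} (j : U ⟶ X) (F : Ab X) : Prop :=
  ∀ (Ω : Type u) [Field Ω] [IsSepClosed Ω] (ξ : Spec (CommRingCat.of Ω) ⟶ X),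
    ξ default ∉ Set.range j → IsZero ((stalk ξ).obj F)

/-- `j^* R^(q+1) j_* G = 0`, `j` an open immersion. -/
theorem isZero_pull_Rpush {U X : Scheme.{u}} (j : U ⟶ X) [IsOpenImmersion j] (G : Ab U) (q : ℕ) :
    IsZero ((EtCoh.pull j).obj ((EtCoh.Rpush j (q + 1)).obj G)) := by
  have e1 : (EtCoh.push j ⋙ EtCoh.pull j) ≅ 𝟭 (EtCoh.Ab U) := asIso (EtCoh.pullPushAdj j).counit
  refine IsZero.of_iso ?_
    (Groth.Agent.Sga4h.LerayAcyc.rightDerivedExactIso (EtCoh.push j) (EtCoh.pull j) G (q + 1)).symm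
  refine IsZero.of_iso ?_ ((Groth.Agent.Sga4h.LerayAcyc.rightDerivedCongr e1 (q + 1)).app G)
  exact Groth.Agent.Etbase.PushExact.isZero_rightDerived_of_exact (𝟭 (EtCoh.Ab U)) G q

theorem isZero_stalk_comp {X Y : Scheme.{u}} (f : X ⟶ Y) {Ω : Type u} [Field Ω] [IsSepClosed Ω]
    (ξ : Spec (CommRingCat.of Ω) ⟶ X) {F : Ab Y} (h : IsZero ((stalk ξ).obj ((pull f).obj F))) :
    IsZero ((stalk (ξ ≫ f)).obj F) :=
  h.of_iso ((Groth.Agent.Etbase.StalkPull.stalkPullIso f ξ).app F)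

theorem isZero_stalk_pull {X Y : Scheme.{u}} (f : X ⟶ Y) {Ω : Type u} [Field Ω] [IsSepClosed Ω]
    (ξ : Spec (CommRingCat.of Ω) ⟶ X) {F : Ab Y} (h : IsZero ((stalk (ξ ≫ f)).obj F)) :
    IsZero ((stalk ξ).obj ((pull f).obj F)) :=
  h.of_iso ((Groth.Agent.Etbase.StalkPull.stalkPullIso f ξ).symm.app F)

/-- A sheaf with zero restriction to `U` and zero stalks outside of `U` is zero. -/
theorem isZero_of_off {U X : Scheme.{u}} (j : U ⟶ X) {F : Ab X} (h1 : Off j F)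
    (h2 : IsZero ((pull j).obj F)) : IsZero F := by
  refine Groth.Agent.Etcore.Stalks.isZero_of_stalks F fun x => ?_
  by_cases hx : x ∈ Set.range j
  · obtain ⟨y, rfl⟩ := hx
    obtain ⟨Ω, i1, i2, ξ, hξ⟩ := Groth.Agent.Etcore.Stalks.exists_geom y
    refine ⟨Ω, i1, i2, ξ ≫ j, ?_, isZero_stalk_comp j ξ ((stalk ξ).map_isZero h2)⟩
    rw [Scheme.Hom.comp_apply, hξ]
  · obtain ⟨Ω, i1, i2, ξ, hξ⟩ := Groth.Agent.Etcore.Stalks.exists_geom x
    exact ⟨Ω, i1, i2, ξ, hξ, h1 Ω ξ (by rw [hξ]; exact hx)⟩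

theorem isZero_rpush {U X : Scheme.{u}} (j : U ⟶ X) [IsOpenImmersion j] (G : Ab U) {i : ℕ}
    (hi : 0 < i) (h : Off j ((Rpush j i).obj G)) : IsZero ((Rpush j i).obj G) := by
  obtain ⟨i, rfl⟩ : ∃ r, i = r + 1 := ⟨i - 1, by omega⟩
  exact isZero_of_off j h (isZero_pull_Rpush j G i)

/-- `j^* j_! G ≅ G` -/
noncomputable def pullExt {U X : Scheme.{u}} (j : U ⟶ X) [IsOpenImmersion j] (G : Ab U) :
    (pull j).obj ((EtShriek.extZero j).obj G) ≅ G :=
  (Groth.Agent.Sga4h.EtaleRes.pullIsoRestr j).app _ ≪≫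
    (asIso ((EtShriek.extZeroAdj j).unit.app G)).symm

variable {U A B C : Scheme.{u}} {u0 : U ⟶ A} {u1 : U ⟶ B} {c0 : A ⟶ C} {c1 : B ⟶ C}
  [IsOpenImmersion u0] [IsOpenImmersion u1] [IsOpenImmersion c0] [IsOpenImmersion c1]

omit [IsOpenImmersion u1] [IsOpenImmersion c0] in
/-- `c1^* R^i c0_* (u0_! G) ≅ R^i u1_* G` -/
theorem nonempty_pull_rpush (sq : IsPullback u0 u1 c0 c1) (G : Ab U) (i : ℕ) :
    Nonempty ((pull c1).obj ((Rpush c0 i).obj ((EtShriek.extZero u0).obj G)) ≅ (Rpush u1 i).obj G) := by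
  obtain ⟨e⟩ := Groth.Agent.Etrest.FLCLocal.pull_Rpush_iso c1 c0 u0 u1 sq
    ((EtShriek.extZero u0).obj G) i
  exact ⟨e ≪≫ (Rpush u1 i).mapIso (pullExt u0 G)⟩

theorem isZero_rpush_extZero (sq : IsPullback u0 u1 c0 c1)
    (hcov : ∀ z : C, z ∈ Set.range c0 ∨ z ∈ Set.range c1) (G : Ab U)
    (h : ∀ i, Off u1 ((Rpush u1 i).obj G)) {i : ℕ} (hi : 0 < i) :
    IsZero ((Rpush c0 i).obj ((EtShriek.extZero u0).obj G)) := by
  obtain ⟨e⟩ := nonempty_pull_rpush sq G i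
  have h1 : IsZero ((pull c1).obj ((Rpush c0 i).obj ((EtShriek.extZero u0).obj G))) :=
    (isZero_rpush u1 G hi (h i)).of_iso e
  obtain ⟨i, rfl⟩ : ∃ r, i = r + 1 := ⟨i - 1, by omega⟩
  refine isZero_of_off c0 ?_ (isZero_pull_Rpush c0 _ i)
  intro Ω _ _ ξ hξ
  have hr : Set.range ξ ⊆ Set.range c1 := by
    rintro _ ⟨x, rfl⟩
    obtain rfl : x = default := Subsingleton.elim _ _
    exact (hcov _).resolve_left hξ
  obtain ⟨η, rfl⟩ : ∃ η, η ≫ c1 = ξ := ⟨IsOpenImmersion.lift c1 ξ hr, IsOpenImmersion.lift_fac c1 ξ hr⟩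
  exact isZero_stalk_comp c1 _ ((stalk _).map_isZero h1)

omit [IsOpenImmersion u1] in
theorem nonempty_push_extZero (sq : IsPullback u0 u1 c0 c1)
    (hcov : ∀ z : C, z ∈ Set.range c0 ∨ z ∈ Set.range c1) (G : Ab U)
    (h : Off u1 ((Rpush u1 0).obj G)) :
    Nonempty ((push c0).obj ((EtShriek.extZero u0).obj G) ≅ (EtShriek.extZero (u0 ≫ c0)).obj G) := by
  let T : Ab C := (push c0).obj ((EtShriek.extZero u0).obj G)
  have eT : T ≅ (Rpush c0 0).obj ((EtShriek.extZero u0).obj G) :=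
    ((Groth.Agent.Sga4h.PushDer.rpushZeroIso c0).app _).symm
  have e0 : (pull c0).obj T ≅ (EtShriek.extZero u0).obj G := asIso ((pullPushAdj c0).counit.app _)
  have hoff : ∀ (Ω : Type u) [Field Ω] [IsSepClosed Ω] (ξ : Spec (CommRingCat.of Ω) ⟶ C),
      ξ default ∉ Set.range (u0 ≫ c0) → IsZero ((stalk ξ).obj T) := by
    intro Ω _ _ ξ hξ
    by_cases h0 : ξ default ∈ Set.range c0
    · have hr : Set.range ξ ⊆ Set.range c0 := by
        rintro _ ⟨x, rfl⟩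
        obtain rfl : x = default := Subsingleton.elim _ _
        exact h0
      obtain ⟨η, rfl⟩ : ∃ η, η ≫ c0 = ξ := ⟨IsOpenImmersion.lift c0 ξ hr, IsOpenImmersion.lift_fac c0 ξ hr⟩
      refine isZero_stalk_comp c0 η ?_
      refine IsZero.of_iso ?_ ((stalk η).mapIso e0)
      refine Groth.Agent.Etcore.ShriekUnique.isZero_stalk_extZero' u0 η ?_ G
      rintro ⟨y, hy⟩
      exact hξ ⟨y, by rw [Scheme.Hom.comp_apply, Scheme.Hom.comp_apply, hy]⟩
    · have hr : Set.range ξ ⊆ Set.range c1 := by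
        rintro _ ⟨x, rfl⟩
        obtain rfl : x = default := Subsingleton.elim _ _
        exact (hcov _).resolve_left h0
      obtain ⟨η, rfl⟩ : ∃ η, η ≫ c1 = ξ := ⟨IsOpenImmersion.lift c1 ξ hr, IsOpenImmersion.lift_fac c1 ξ hr⟩
      obtain ⟨e⟩ := nonempty_pull_rpush sq G 0
      refine isZero_stalk_comp c1 η ?_
      refine IsZero.of_iso ?_ ((stalk η).mapIso ((pull c1).mapIso eT ≪≫ e))
      refine h Ω η ?_
      rintro ⟨y, hy⟩
      apply h0
      refine ⟨u0 y, ?_⟩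
      rw [← Scheme.Hom.comp_apply, sq.w, Scheme.Hom.comp_apply, hy, Scheme.Hom.comp_apply]
  have hiso := Groth.Agent.Etcore.ShriekUnique.isIso_counit_of_isZero_stalks (u0 ≫ c0) T
    (fun Ω _ _ ξ hξ => hoff Ω ξ (hξ ⟨default, rfl⟩))
  let eR : (EtShriek.restrAlong (u0 ≫ c0)).obj T ≅ G :=
    (Groth.Agent.Sga4h.EtaleRes.pullIsoRestr (u0 ≫ c0)).symm.app T ≪≫
      (EtCore.pullComp u0 c0).app T ≪≫ (pull u0).mapIso e0 ≪≫ pullExt u0 G
  exact ⟨(asIso ((EtShriek.extZeroAdj (u0 ≫ c0)).counit.app T)).symm ≪≫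
    (EtShriek.extZero (u0 ≫ c0)).mapIso eR⟩

end Groth.Agent.Sga4h.H15.TwoChart
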